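import Groth.Agent.GrpSchLib.FrobKernel
import Groth.Agent.GrpSchLib.AntiAffineHom
import Groth.Agent.GrpSchLib.Coincidence
import Mathlib.AlgebraicGeometry.ZariskisMainTheorem
import Mathlib.AlgebraicGeometry.Morphisms.Finite

/-! The kernel of a power of Frobenius is a finite connected normal subgroup, with a criterion for its points. -/

set_option autoImplicit false
set_option backward.isDefEq.respectTransparency false
set_option backward.isDefEq.respectTransparency.types false
set_option linter.style.haveILetI false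

universe u

open CategoryTheory Limits AlgebraicGeometry MonoidalCategory CartesianMonoidalCategory MonObj GrpObj
open scoped TensorProduct

namespace Groth.Agent.FrobQuot

open GrpSchLib GrpSchLib.Kunneth GrpSchLib.LineGroups GrpSchLib.Adjoint GrpSchLib.FrobKernel

variable {k : Type u} [Field k]

theorem ev_algebraMap_comp {T X : Over (Spec (CommRingCat.of k))} (y : 𝟙_ (Over (Spec (CommRingCat.of k))) ⟶ X)
    (b : Fn X) : ev (toUnit T ≫ y) b = algebraMap k (Fn T) (evPt y b) := by
  rw [← ev_ev]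
  have h : ev y b = algebraMap k _ (evPt y b) := by
    apply (ConcreteCategory.bijective_of_isIso (Scheme.ΓSpecIso (CommRingCat.of k)).hom).1
    show evPt y b = _
    exact ((evPt (𝟙 (𝟙_ (Over (Spec (CommRingCat.of k)))))).commutes (evPt y b)).symm
  rw [h, AlgHom.commutes]

/-- Functions on a product with an infinitesimal pointed scheme, killed on the section, have nilpotency bounded. -/
theorem pow_sub_eq_zero {p : ℕ} [ExpChar k p] (m : ℕ) {V K : Over (Spec (CommRingCat.of k))} [IsAffine V.left]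
    [IsAffine K.left] {z : 𝟙_ (Over (Spec (CommRingCat.of k))) ⟶ K} (hz : Frobby (p ^ m) z)
    (t : Fn (V ⊗ K)) (ht : ev (lift (𝟙 V) (toUnit V ≫ z)) t = 0) : t ^ p ^ m = 0 := by
  haveI : QuasiCompact V.hom := inferInstance
  haveI : IsSeparated V.hom := inferInstance
  by_cases hn : Nontrivial (Fn (V ⊗ K))
  swap
  · rw [not_nontrivial_iff_subsingleton] at hn
    exact Subsingleton.elim _ _
  haveI : ExpChar (Fn (V ⊗ K)) p := expChar_of_injective_algebraMap (algebraMap k (Fn (V ⊗ K))).injective p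
  let s : V ⟶ V ⊗ K := lift (𝟙 V) (toUnit V ≫ z)
  have key : ∀ x, (toProd V K x - ev (fst V K) (ev s (toProd V K x))) ^ p ^ m = 0 := by
    intro x
    induction x using TensorProduct.induction_on with
    | zero => rw [map_zero, map_zero, map_zero, sub_zero, zero_pow (pow_ne_zero m (expChar_ne_zero k p))]
    | tmul a b =>
      have h1 : ev s (ev (fst V K) a) = a := by rw [ev_ev, lift_fst, ev_id]
      have h2 : ev s (ev (snd V K) b) = algebraMap k _ (evPt z b) := by
        rw [ev_ev, lift_snd, ev_algebraMap_comp]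
      have h4 : (ev (snd V K) b - algebraMap k _ (evPt z b)) ^ p ^ m = 0 := by
        rw [← AlgHom.commutes (ev (snd V K)), ← map_sub, ← map_pow, hz, map_zero]
      rw [toProd, Algebra.TensorProduct.lift_tmul, map_mul, h1, h2, map_mul, AlgHom.commutes, ← mul_sub,
        mul_pow, h4, mul_zero]
    | add a b ha hb =>
      rw [map_add, map_add, map_add, add_sub_add_comm, add_pow_expChar_pow, ha, hb, add_zero]
  obtain ⟨x, rfl⟩ := (toProd_bijective V K).2 t
  have := key x
  rwa [ht, map_zero, sub_zero] at this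

/-- The kernel of a power of Frobenius. -/
theorem exists_kernel (p : ℕ) [ExpChar k p] (m : ℕ) (G : Over (Spec (CommRingCat.of k))) [GrpObj G]
    [LocallyOfFiniteType G.hom] (D : Nbhds G η[G]) :
    ∃ (K : Over (Spec (CommRingCat.of k))) (_ : GrpObj K) (κ : K ⟶ G), IsMonHom κ ∧ Mono κ ∧
      IsClosedImmersion κ.left ∧ IsFinite K.hom ∧ ConnectedSpace K.left ∧ AlgGrp.IsNormalHom κ ∧
      (∃ k₀ : K ⟶ D.U, k₀ ≫ D.uι = κ ∧ ∀ a, evPt D.u₀ a = 0 → (ev k₀ a) ^ p ^ m = 0) ∧
      ∀ (T : Over (Spec (CommRingCat.of k))) (f₀ : T ⟶ D.U),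
        (∀ a, evPt D.u₀ a = 0 → (ev f₀ a) ^ p ^ m = 0) → ∃ g : T ⟶ K, g ≫ κ = f₀ ≫ D.uι := by
  classical
  obtain ⟨K, strK, κ, hκ, hmono, haff, hlft, hsub, hfro, huniv, -⟩ := FrobKernel.exists_kernel p m G D
  haveI := hκ; haveI := hmono; haveI := haff; haveI := hlft; haveI := hsub
  haveI := AntiAffine.isSeparated_grp G
  let pt : ↥(Spec (CommRingCat.of k)) := IsLocalRing.closedPoint k
  -- the truncated neighbourhood
  have crit : ∀ (T : Over (Spec (CommRingCat.of k))) (f₀ : T ⟶ D.U),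
      (∀ a, evPt D.u₀ a = 0 → (ev f₀ a) ^ p ^ m = 0) → ∃ g : T ⟶ K, g ≫ κ = f₀ ≫ D.uι := by
    intro T f₀ hf
    let J : Ideal (Fn D.U) := Ideal.span ((fun a => a ^ p ^ m) '' (RingHom.ker (evPt D.u₀) : Set (Fn D.U)))
    have hJ : J ≤ RingHom.ker (evPt D.u₀) := Ideal.span_le.mpr (by
      rintro _ ⟨a, ha, rfl⟩
      exact Ideal.pow_mem_of_mem _ ha _ (Nat.pos_of_ne_zero (pow_ne_zero m (expChar_ne_zero k p))))
    let R : Over (Spec (CommRingCat.of k)) := Over.mk (Spec.map (CommRingCat.ofHom (algebraMap k (Fn D.U ⧸ J))))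
    haveI : IsAffine R.left := isAffine_Spec _
    obtain ⟨i, hi⟩ := exists_hom_ev (X := D.U) (T := R)
      ((spEquiv (k := k) (Fn D.U ⧸ J)).toAlgHom.comp (Ideal.Quotient.mkₐ k J))
    have his : Function.Surjective (ev i) := by
      rw [hi]
      exact (spEquiv (k := k) _).surjective.comp Ideal.Quotient.mk_surjective
    let δ : (Fn D.U ⧸ J) →ₐ[k] Fn (𝟙_ (Over (Spec (CommRingCat.of k)))) :=
      Ideal.Quotient.liftₐ _ (ev D.u₀) fun a ha => by
        apply (ConcreteCategory.bijective_of_isIso (Scheme.ΓSpecIso (CommRingCat.of k)).hom).1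
        exact (RingHom.mem_ker.mp (hJ ha)).trans (map_zero _).symm
    obtain ⟨z, hz⟩ := exists_hom_ev (X := R) (δ.comp (spEquiv (k := k) (Fn D.U ⧸ J)).symm.toAlgHom)
    have hzi : z ≫ i = D.u₀ := ext_ev (AlgHom.ext fun a => by
      rw [← ev_ev, hi, hz]
      show δ ((spEquiv (k := k) (Fn D.U ⧸ J)).symm (spEquiv (k := k) (Fn D.U ⧸ J) (Ideal.Quotient.mk J a))) = _
      rw [AlgEquiv.symm_apply_apply]
      rfl)
    have hR : Frobby (p ^ m) z := fun x => by
      obtain ⟨a, rfl⟩ := his x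
      rw [evPt_comp, hzi, ← AlgHom.commutes (ev i), ← map_sub, ← map_pow, hi]
      show spEquiv (k := k) (Fn D.U ⧸ J) (Ideal.Quotient.mk J ((a - algebraMap k _ (evPt D.u₀ a)) ^ p ^ m)) = 0
      rw [Ideal.Quotient.eq_zero_iff_mem.mpr (Ideal.subset_span (Set.mem_image_of_mem _
        (show a - algebraMap k _ (evPt D.u₀ a) ∈ RingHom.ker (evPt D.u₀) by simp [RingHom.mem_ker]))), map_zero]
    obtain ⟨h, hh⟩ := huniv R z hR (i ≫ D.uι) (by rw [← Category.assoc, hzi, D.u₀_fac])
    have hle : J ≤ RingHom.ker (ev f₀) := Ideal.span_le.mpr (by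
      rintro _ ⟨b, hb, rfl⟩
      rw [SetLike.mem_coe, RingHom.mem_ker, map_pow]
      exact hf b (RingHom.mem_ker.mp hb))
    obtain ⟨g₀, hg₀⟩ := exists_hom_ev (X := R)
      ((Ideal.Quotient.liftₐ J (ev f₀) fun a ha => hle ha).comp (spEquiv (k := k) (Fn D.U ⧸ J)).symm.toAlgHom)
    refine ⟨g₀ ≫ h, ?_⟩
    rw [Category.assoc, hh, ← Category.assoc]
    congr 1
    refine ext_ev (AlgHom.ext fun a => ?_)
    rw [← ev_ev, hi, hg₀]
    show (Ideal.Quotient.liftₐ J (ev f₀) fun a ha => hle ha) ((spEquiv (k := k) (Fn D.U ⧸ J)).symm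
      (spEquiv (k := k) (Fn D.U ⧸ J) (Ideal.Quotient.mk J a))) = _
    rw [AlgEquiv.symm_apply_apply]
    rfl
  haveI : IsFinite K.hom := by
    have e : K.hom = K.left.isoSpec.hom ≫ Spec.map (CommRingCat.ofHom (algebraMap k (Fn K))) := by
      show _ = K.left.toSpecΓ ≫ Spec.map ((Scheme.ΓSpecIso (CommRingCat.of k)).inv ≫ K.hom.appTop)
      rw [Spec.map_comp, ← Scheme.toSpecΓ_naturality_assoc, ← SpecMap_ΓSpecIso_hom, ← Spec.map_comp,
        Iso.inv_hom_id, Spec.map_id, Category.comp_id]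
    have hft : Algebra.FiniteType k (Fn K) := by
      have h1 : LocallyOfFiniteType (K.left.isoSpec.hom ≫ Spec.map (CommRingCat.ofHom (algebraMap k (Fn K)))) := by
        rw [← e]; infer_instance
      rw [MorphismProperty.cancel_left_of_respectsIso (P := @LocallyOfFiniteType),
        HasRingHomProperty.Spec_iff (P := @LocallyOfFiniteType)] at h1
      exact RingHom.finiteType_algebraMap.mp h1
    haveI : Algebra.IsIntegral k (Fn K) := ⟨fun x => by
      refine ⟨(Polynomial.X - Polynomial.C (evPt η[K] x)) ^ p ^ m, (Polynomial.monic_X_sub_C _).pow _, ?_⟩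
      rw [Polynomial.eval₂_pow, Polynomial.eval₂_sub, Polynomial.eval₂_X, Polynomial.eval₂_C]
      exact hfro x⟩
    haveI : Module.Finite k (Fn K) := Algebra.IsIntegral.finite
    rw [e, MorphismProperty.cancel_left_of_respectsIso (P := @IsFinite), IsFinite.SpecMap_iff]
    exact RingHom.finite_algebraMap.mpr inferInstance
  haveI : IsClosedImmersion κ.left := by
    haveI : IsProper (κ.left ≫ G.hom) := by rw [Over.w κ]; infer_instance
    haveI : IsProper κ.left := IsProper.of_comp κ.left G.hom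
    haveI : Mono κ.left := (Over.forget _).map_mono κ
    exact (IsClosedImmersion.iff_isProper_and_mono κ.left).mpr ⟨inferInstance, inferInstance⟩
  have hconn : ConnectedSpace K.left :=
    { toNonempty := ⟨η[K].left pt⟩, isPreconnected_univ := Set.subsingleton_univ.isPreconnected }
  have hk : ∃ k₀ : K ⟶ D.U, k₀ ≫ D.uι = κ ∧ ∀ a, evPt D.u₀ a = 0 → (ev k₀ a) ^ p ^ m = 0 := by
    have hr : Set.range κ.left ⊆ Set.range D.uι.left := by
      rintro _ ⟨x, rfl⟩
      refine ⟨D.u₀.left pt, ?_⟩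
      rw [Subsingleton.elim x (η[K].left pt), ← Scheme.Hom.comp_apply, ← Scheme.Hom.comp_apply, ← Over.comp_left,
        ← Over.comp_left, IsMonHom.one_hom, D.u₀_fac]
    let k₀ : K ⟶ D.U := Over.homMk (IsOpenImmersion.lift D.uι.left κ.left hr) (by
      rw [← Over.w D.uι, IsOpenImmersion.lift_fac_assoc, Over.w κ])
    have hk₀ : k₀ ≫ D.uι = κ := Over.OverMorphism.ext (IsOpenImmersion.lift_fac _ _ _)
    refine ⟨k₀, hk₀, fun a ha => ?_⟩
    haveI : Mono D.uι := (Over.forget _).mono_of_mono_map (inferInstanceAs (Mono D.uι.left))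
    have e : η[K] ≫ k₀ = D.u₀ := by rw [← cancel_mono D.uι, Category.assoc, hk₀, IsMonHom.one_hom, D.u₀_fac]
    have h := hfro (ev k₀ a)
    rwa [evPt_comp, e, ha, map_zero, sub_zero] at h
  refine ⟨K, strK, κ, hκ, hmono, inferInstance, inferInstance, hconn, ?_, hk, crit⟩
  -- normality
  let y : G ⊗ K ⟶ G := fst G K * (snd G K ≫ κ) * (fst G K)⁻¹
  suffices hy : ∃ r : G ⊗ K ⟶ K, r ≫ κ = y by
    obtain ⟨r, hr⟩ := hy
    intro T g n
    refine ⟨lift g n ≫ r, ?_⟩
    rw [Category.assoc, hr]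
    simp only [y, MonObj.comp_mul, GrpObj.comp_inv, lift_fst, ← Category.assoc, lift_snd]
  let pr : pullback y.left κ.left ⟶ (G ⊗ K).left := pullback.fst _ _
  suffices hiso : IsIso pr by
    refine ⟨Over.homMk (inv pr ≫ pullback.snd _ _) ?_, Over.OverMorphism.ext ?_⟩
    · rw [← Over.w κ, Category.assoc, ← pullback.condition_assoc, Over.w y, IsIso.inv_hom_id_assoc]
    · show (inv pr ≫ pullback.snd _ _) ≫ κ.left = y.left
      rw [Category.assoc, ← pullback.condition, IsIso.inv_hom_id_assoc]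
  haveI : Mono pr := inferInstance
  have hloc : ∀ z : (G ⊗ K).left, ∃ W : (G ⊗ K).left.Opens, z ∈ W ∧ IsIso (pr ∣_ W) := by
    intro z
    obtain ⟨U, hU, hzU, -⟩ := exists_isAffineOpen_mem_and_subset
      (show (fst G K).left z ∈ (⊤ : G.left.Opens) from trivial)
    let V : Over (Spec (CommRingCat.of k)) := Over.mk (U.ι ≫ G.hom)
    let jV : V ⟶ G := Over.homMk U.ι rfl
    haveI : IsAffine V.left := hU
    haveI : IsOpenImmersion jV.left := inferInstanceAs (IsOpenImmersion U.ι)
    have hsq : IsPullback (jV ▷ K).left (fst V K).left (fst G K).left jV.left :=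
      (IsPullback.of_bot (h₁₁ := (fst V K).left) (v₁₁ := (jV ▷ K).left) (v₁₂ := jV.left)
        (by
          have e1 : (jV ▷ K).left ≫ pullback.snd G.hom K.hom = pullback.snd V.hom K.hom :=
            congrArg CommaMorphism.left (whiskerRight_snd jV K)
          rw [e1, Over.w jV]
          exact IsPullback.of_hasPullback _ _)
        (congrArg CommaMorphism.left (whiskerRight_fst jV K)).symm
        (IsPullback.of_hasPullback G.hom K.hom)).flip
    haveI : IsOpenImmersion (jV ▷ K).left := MorphismProperty.of_isPullback (P := @IsOpenImmersion) hsq.flip inferInstance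
    -- the unit section is surjective
    let s : V ⟶ V ⊗ K := lift (𝟙 V) (toUnit V ≫ η[K])
    haveI : Surjective η[K].left := ⟨fun x => ⟨pt, Subsingleton.elim _ _⟩⟩
    have hs : Surjective s.left := by
      have h1 : Surjective (V ◁ η[K]).left :=
        MorphismProperty.of_isPullback (P := @Surjective) (GrpSchLib.isPullback_whiskerLeft (W := V) η[K]).flip inferInstance
      have e : s = (ρ_ V).inv ≫ V ◁ η[K] := by
        apply CartesianMonoidalCategory.hom_ext
        · simp [s]
        · simp [s, toUnit_unique ((ρ_ V).inv ≫ snd V (𝟙_ _)) (toUnit V)]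
      haveI : IsIso (ρ_ V).inv.left := inferInstanceAs (IsIso ((Over.forget _).map (ρ_ V).inv))
      rw [e, Over.comp_left]
      infer_instance
    let yV : V ⊗ K ⟶ G := (jV ▷ K) ≫ y
    have hsy : s ≫ yV = toUnit V ≫ η[G] := by
      simp only [yV, y, MonObj.comp_mul, GrpObj.comp_inv, ← Category.assoc, s, Category.assoc, whiskerRight_fst,
        whiskerRight_snd_assoc, lift_fst_assoc, lift_snd_assoc, IsMonHom.one_hom, Category.id_comp]
      rw [← Hom.one_def, _root_.mul_one, mul_inv_cancel]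
    have hr : Set.range yV.left ⊆ Set.range D.uι.left := by
      rintro _ ⟨x, rfl⟩
      obtain ⟨w, rfl⟩ := s.left.surjective x
      refine ⟨D.u₀.left ((toUnit V).left w), ?_⟩
      rw [← Scheme.Hom.comp_apply, ← Scheme.Hom.comp_apply, ← Scheme.Hom.comp_apply, ← Over.comp_left,
        ← Over.comp_left, ← Over.comp_left, D.u₀_fac, ← hsy]
    let y₀ : V ⊗ K ⟶ D.U := Over.homMk (IsOpenImmersion.lift D.uι.left yV.left hr) (by
      rw [← Over.w D.uι, IsOpenImmersion.lift_fac_assoc, Over.w yV])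
    have hy₀ : y₀ ≫ D.uι = yV := Over.OverMorphism.ext (IsOpenImmersion.lift_fac _ _ _)
    haveI : Mono D.uι := (Over.forget _).mono_of_mono_map (inferInstanceAs (Mono D.uι.left))
    have hsy₀ : s ≫ y₀ = toUnit V ≫ D.u₀ := by
      rw [← cancel_mono D.uι, Category.assoc, hy₀, hsy, Category.assoc, D.u₀_fac]
    obtain ⟨g, hg⟩ := crit (V ⊗ K) y₀ fun a ha => pow_sub_eq_zero m hfro _ (by
      show ev s (ev y₀ a) = 0
      rw [ev_ev, hsy₀, ev_algebraMap_comp, ha, map_zero])
    rw [hy₀] at hg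
    refine ⟨(jV ▷ K).left.opensRange, ?_, ?_⟩
    · show z ∈ Set.range (jV ▷ K).left
      obtain ⟨x, hx, -⟩ := Scheme.Pullback.exists_preimage_pullback (f := (fst G K).left) (g := jV.left) z
        ⟨(fst G K).left z, hzU⟩ rfl
      refine ⟨hsq.isoPullback.inv x, ?_⟩
      rw [← Scheme.Hom.comp_apply, hsq.isoPullback_inv_fst, hx]
    · let W := (jV ▷ K).left.opensRange
      let e := (jV ▷ K).left.isoOpensRange
      have he : e.hom ≫ W.ι = (jV ▷ K).left := IsOpenImmersion.lift_fac _ _ _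
      let σ : W.toScheme ⟶ pullback y.left κ.left := pullback.lift W.ι (e.inv ≫ g.left) (by
        rw [← cancel_epi e.hom, ← Category.assoc, he, Category.assoc, Iso.hom_inv_id_assoc, ← Over.comp_left,
          ← Over.comp_left, hg])
      have hσ : σ ≫ pr = W.ι := pullback.lift_fst _ _ _
      let σ' : W.toScheme ⟶ (pr ⁻¹ᵁ W).toScheme := IsOpenImmersion.lift (pr ⁻¹ᵁ W).ι σ (by
        rintro _ ⟨w, rfl⟩
        rw [Scheme.Opens.range_ι]
        show pr (σ w) ∈ W
        rw [← Scheme.Hom.comp_apply, hσ]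
        exact w.2)
      have hσ' : σ' ≫ pr ∣_ W = 𝟙 _ := by
        rw [← cancel_mono W.ι, Category.assoc, morphismRestrict_ι, IsOpenImmersion.lift_fac_assoc, hσ,
          Category.id_comp]
      haveI : IsSplitEpi (pr ∣_ W) := ⟨⟨⟨σ', hσ'⟩⟩⟩
      haveI : Mono (pr ∣_ W) := by
        have h1 : Mono ((pr ∣_ W) ≫ W.ι) := by rw [morphismRestrict_ι]; infer_instance
        exact mono_of_mono (pr ∣_ W) W.ι
      exact isIso_of_mono_of_isSplitEpi _
  choose W hW hWiso using hloc
  exact IsZariskiLocalAtTarget.of_iSup_eq_top (P := MorphismProperty.isomorphisms Scheme) W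
    (eq_top_iff.mpr fun x _ => TopologicalSpace.Opens.mem_iSup.mpr ⟨x, hW x⟩) hWiso

end Groth.Agent.FrobQuot
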