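import Groth.Agent.GrpSchLib.AntiAffineSmooth

/-! A tower of quotients of a connected group over a perfect field exhausting the infinitesimal neighbourhoods
has a reduced member. -/

set_option autoImplicit false
set_option backward.isDefEq.respectTransparency false
set_option backward.isDefEq.respectTransparency.types false
set_option linter.style.haveILetI false

universe u

open CategoryTheory Limits AlgebraicGeometry MonoidalCategory CartesianMonoidalCategory MonObj

namespace Groth.Agent.FrobQuot

open GrpSchLib GrpSchLib.Adjoint GrpSchLib.AntiAffineSmooth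

variable {k : Type u} [Field k] [PerfectField k]

theorem exists_isReduced (G : Over (Spec (CommRingCat.of k))) [GrpObj G] [LocallyOfFiniteType G.hom]
    [QuasiCompact G.hom] [ConnectedSpace G.left] (D : Nbhds G η[G])
    (Q : ℕ → Over (Spec (CommRingCat.of k))) [∀ m, GrpObj (Q m)] [∀ m, LocallyOfFiniteType (Q m).hom]
    (q : ∀ m, G ⟶ Q m) [∀ m, IsMonHom (q m)] [∀ m, Flat (q m).left] [∀ m, Surjective (q m).left]
    (ht : ∀ m m', m ≤ m' → ∃ t : Q m ⟶ Q m', q m ≫ t = q m')
    (hD : ∀ n, ∃ m, (D.j n ≫ D.uι) ≫ q m = 1) :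
    ∃ m, IsReduced (Q m).left := by
  classical
  haveI := AntiAffine.isSeparated_grp G
  haveI : CompactSpace G.left := (quasiCompact_iff_compactSpace G.hom).mp inferInstance
  haveI : ∀ m, QuasiCompact (Q m).hom := fun m =>
    (quasiCompact_iff_compactSpace (Q m).hom).mpr ⟨by
      rw [← (q m).left.surjective.range_eq]
      exact isCompact_range (q m).left.continuous⟩
  haveI : ∀ m, IsSeparated (Q m).hom := fun m => AntiAffine.isSeparated_grp (Q m)
  choose R strR r hr hrc hred hrs hRlft hRqc using fun m => RedSubgroup.exists_redSubgroup (Q m)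
  haveI := hr; haveI := hrc; haveI := hred; haveI := hrs; haveI := hRlft
  let I : ℕ → Over (Spec (CommRingCat.of k)) := fun m => Over.mk (pullback.fst (q m).left (r m).left ≫ G.hom)
  let jI : ∀ m, I m ⟶ G := fun m => Over.homMk (pullback.fst (q m).left (r m).left) rfl
  let bI : ∀ m, I m ⟶ R m := fun m => Over.homMk (pullback.snd (q m).left (r m).left) (by
    show pullback.snd (q m).left (r m).left ≫ (R m).hom = pullback.fst (q m).left (r m).left ≫ G.hom
    rw [← Over.w (r m), ← pullback.condition_assoc, Over.w (q m)])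
  have hw : ∀ m, jI m ≫ q m = bI m ≫ r m := fun m => Over.OverMorphism.ext pullback.condition
  haveI : ∀ m, IsClosedImmersion (jI m).left := fun m =>
    inferInstanceAs (IsClosedImmersion (pullback.fst (q m).left (r m).left))
  haveI hjs : ∀ m, Surjective (jI m).left := fun m =>
    inferInstanceAs (Surjective (pullback.fst (q m).left (r m).left))
  haveI : ∀ m, LocallyOfFiniteType (I m).hom := fun m => by
    show LocallyOfFiniteType ((jI m).left ≫ G.hom)
    infer_instance
  haveI hmono : ∀ m, Mono (jI m) := fun m => (Over.forget _).mono_of_mono_map (inferInstanceAs (Mono (jI m).left))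
  have hmem : ∀ m {T : Over (Spec (CommRingCat.of k))} (a : T ⟶ G) (b : T ⟶ R m), a ≫ q m = b ≫ r m →
      ∃ l : T ⟶ I m, l ≫ jI m = a := fun m T a b h =>
    ⟨Over.homMk (pullback.lift a.left b.left (congrArg CommaMorphism.left h)) (by
      show pullback.lift a.left b.left _ ≫ pullback.fst (q m).left (r m).left ≫ G.hom = T.hom
      rw [pullback.lift_fst_assoc, Over.w a]), Over.OverMorphism.ext (pullback.lift_fst _ _ _)⟩
  have hgrp : ∀ m, ∃ str : GrpObj (I m), @IsMonHom _ _ _ (I m) G str.toMonObj _ (jI m) := by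
    intro m
    obtain ⟨e, he⟩ := hmem m η[G] η[R m] (by rw [IsMonHom.one_hom, IsMonHom.one_hom])
    obtain ⟨μ', hμ'⟩ := hmem m ((fst (I m) (I m) ≫ jI m) * (snd (I m) (I m) ≫ jI m))
      ((fst (I m) (I m) ≫ bI m) * (snd (I m) (I m) ≫ bI m)) (by
        simp only [MonObj.mul_comp, Category.assoc, hw])
    obtain ⟨v, hv⟩ := hmem m (jI m)⁻¹ (bI m)⁻¹ (by simp only [GrpObj.inv_comp, hw])
    exact exists_grpObj_of_mono (jI m) e he μ' hμ' v hv
  choose strI hjI using hgrp
  haveI := hjI
  have hinc : ∀ m m', m ≤ m' → ∃ c : I m ⟶ I m', c ≫ jI m' = jI m := by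
    intro m m' hmm'
    obtain ⟨t, htt⟩ := ht m m' hmm'
    let π : pullback (r m ≫ t).left (r m').left ⟶ (R m).left := pullback.fst _ _
    haveI : IsClosedImmersion π := inferInstanceAs (IsClosedImmersion (pullback.fst _ _))
    haveI : Surjective π := inferInstanceAs (Surjective (pullback.fst _ _))
    haveI : IsIso π := isIso_of_isClosedImmersion_of_surjective π
    let ρ : R m ⟶ R m' := Over.homMk (inv π ≫ pullback.snd _ _) (by
      rw [← Over.w (r m'), Category.assoc, ← pullback.condition_assoc, Over.w (r m ≫ t), IsIso.inv_hom_id_assoc])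
    have hρ : ρ ≫ r m' = r m ≫ t := Over.OverMorphism.ext (by
      show (inv π ≫ pullback.snd _ _) ≫ (r m').left = (r m ≫ t).left
      rw [Category.assoc, ← pullback.condition, IsIso.inv_hom_id_assoc])
    exact hmem m' (jI m) (bI m ≫ ρ) (by rw [Category.assoc, hρ, ← htt, reassoc_of% (hw m)])
  haveI : IrreducibleSpace G.left := by
    haveI := geometricallyIrreducible (G := G)
    exact GeometricallyIrreducible.irreducibleSpace_of_subsingleton G.hom
  let gη : G.left := genericPoint G.left
  haveI : IsLocallyNoetherian G.left := LocallyOfFiniteType.isLocallyNoetherian G.hom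
  haveI : IsArtinianRing (G.left.presheaf.stalk gη) :=
    H9Misc.RatFunLib.isArtinianRing_stalk gη fun y hy =>
      (Specializes.antisymm hy ((genericPoint_spec G.left).specializes (by trivial))).eq
  choose x hx using fun m => (jI m).left.surjective gη
  obtain ⟨𝔞, ⟨m₀, rfl⟩, hmin⟩ := set_has_minimal_iff_artinian.mpr ‹_›
    (Set.range fun m => kerAt (jI m).left (x m) (hx m)) ⟨_, 0, rfl⟩
  have hstab : ∀ m, m₀ ≤ m → ∃ c : I m ⟶ I m₀, c ≫ jI m₀ = jI m := by
    intro m hm
    obtain ⟨c, hc⟩ := hinc m₀ m hm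
    haveI : IsMonHom c :=
      { one_hom := by rw [← cancel_mono (jI m), Category.assoc, hc, IsMonHom.one_hom, IsMonHom.one_hom]
        mul_hom := by
          rw [← cancel_mono (jI m), Category.assoc, hc, IsMonHom.mul_hom, Category.assoc, IsMonHom.mul_hom,
            MonoidalCategory.tensorHom_comp_tensorHom_assoc, hc] }
    have hcl : c.left ≫ (jI m).left = (jI m₀).left := congrArg CommaMorphism.left hc
    haveI : IsClosedImmersion (c.left ≫ (jI m).left) := by rw [hcl]; infer_instance
    haveI : IsClosedImmersion c.left := IsClosedImmersion.of_comp c.left (jI m).left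
    have hcx : c.left (x m₀) = x m := (jI m).left.isClosedEmbedding.injective (by
      rw [← Scheme.Hom.comp_apply, hcl, hx, hx])
    have key : ∀ (j : (I m₀).left ⟶ G.left), j = c.left ≫ (jI m).left → ∀ h, kerAt j (x m₀) h =
        kerAt (c.left ≫ (jI m).left) (x m₀) (by rw [hcl, hx]) := by rintro _ rfl _; rfl
    have key2 : ∀ (y : (I m).left), y = c.left (x m₀) → ∀ h, kerAt (jI m).left y h =
        kerAt (jI m).left (c.left (x m₀)) (by rw [hcx, hx]) := by rintro _ rfl _; rfl
    obtain ⟨hle, hfl⟩ := kerAt_comp (jI m).left c.left (x m₀) (pt := gη) (by rw [hcl, hx]) (by rw [hcx, hx])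
    rw [← key _ hcl.symm (hx m₀), ← key2 _ hcx.symm (hx m)] at hle hfl
    haveI : Flat (I m₀).hom := inferInstance
    haveI : Flat c.left := S5336.result k (I m₀) (I m) c
      ⟨x m₀, hfl (eq_of_le_of_not_lt hle (hmin _ ⟨m, rfl⟩)).ge⟩
    haveI : LocallyOfFiniteType (c.left ≫ (I m).hom) := by rw [Over.w c]; infer_instance
    haveI : LocallyOfFiniteType c.left := locallyOfFiniteType_of_comp c.left (I m).hom
    haveI : IsLocallyNoetherian (I m).left := LocallyOfFiniteType.isLocallyNoetherian (I m).hom
    haveI : LocallyOfFinitePresentation c.left := inferInstance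
    haveI : IsOpenImmersion c.left := IsOpenImmersion.of_flat_of_mono c.left
    haveI : Surjective c.left := ⟨fun y => by
      obtain ⟨z, hz⟩ := (jI m₀).left.surjective ((jI m).left y)
      exact ⟨z, (jI m).left.isClosedEmbedding.injective (by rw [← Scheme.Hom.comp_apply, hcl, hz])⟩⟩
    haveI : IsIso c.left := (isIso_iff_isOpenImmersion_and_surjective c.left).mpr ⟨inferInstance, inferInstance⟩
    haveI : IsIso ((Over.forget _).map c) := inferInstanceAs (IsIso c.left)
    haveI : IsIso c := isIso_of_reflects_iso c (Over.forget _)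
    exact ⟨inv c, by rw [IsIso.inv_comp_eq, hc]⟩
  haveI : IsIso (jI m₀) := isIso_of_nbhds D (jI m₀) fun n => by
    obtain ⟨m, hm⟩ := hD n
    obtain ⟨t, htt⟩ := ht m (max m m₀) (le_max_left _ _)
    have h1 : (D.j n ≫ D.uι) ≫ q (max m m₀) = 1 := by
      rw [← htt, ← Category.assoc, hm, Hom.one_def, Category.assoc]
      congr 1
      rw [← IsMonHom.one_hom (f := q m), Category.assoc, htt]
      exact (‹∀ m, IsMonHom (q m)› (max m m₀)).one_hom
    obtain ⟨l, hl⟩ := hmem (max m m₀) (D.j n ≫ D.uι) (1 : D.N n ⟶ R (max m m₀)) (by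
      rw [h1, MonObj.one_comp])
    obtain ⟨c, hc⟩ := hstab (max m m₀) (le_max_right _ _)
    exact ⟨l ≫ c, by rw [Category.assoc, hc, hl]⟩
  haveI : IsIso (jI m₀).left := inferInstanceAs (IsIso ((Over.forget _).map (jI m₀)))
  obtain ⟨s, hs⟩ : ∃ s : (Q m₀).left ⟶ (R m₀).left, s ≫ (r m₀).left = 𝟙 _ := by
    haveI : QuasiCompact ((q m₀).left ≫ (Q m₀).hom) := by rw [Over.w (q m₀)]; infer_instance
    haveI : QuasiCompact (q m₀).left := QuasiCompact.of_comp (q m₀).left (Q m₀).hom
    exact exists_factor (q m₀).left (𝟙 _) (r m₀).left (inv (jI m₀).left ≫ (bI m₀).left) (by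
      rw [Category.assoc, ← Over.comp_left, ← hw, Over.comp_left, IsIso.inv_hom_id_assoc, Category.comp_id])
  haveI : IsSplitEpi (r m₀).left := ⟨⟨⟨s, hs⟩⟩⟩
  haveI : IsIso (r m₀).left := isIso_of_mono_of_isSplitEpi _
  exact ⟨m₀, isReduced_of_isOpenImmersion (inv (r m₀).left)⟩

end Groth.Agent.FrobQuot
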