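import Groth.Agent.FrobQuot.Kernel
import Groth.Agent.FrobQuot.Stab
import Groth.Agent.GrpQuotLib.Group
import Groth.Agent.GrpFieldLib.QuotTower
import Groth.Agent.GrpSchLib.FieldSmooth
import Groth.Agent.GrpSchLib.Cartier
import Groth.Agent.GrpSchLib.FieldAllComp
import Groth.Agent.S3023
import Groth.Prelude.Def_NonAbH2
import Mathlib.AlgebraicGeometry.Geometrically.Irreducible

/-! A group scheme locally of finite type over a field is an extension of a smooth group by a finite connected one. -/

set_option autoImplicit false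
set_option backward.isDefEq.respectTransparency false
set_option backward.isDefEq.respectTransparency.types false
set_option linter.style.haveILetI false
set_option maxHeartbeats 1000000

universe u

open CategoryTheory Limits AlgebraicGeometry MonoidalCategory CartesianMonoidalCategory MonObj
open scoped CategoryTheory.Obj

namespace Groth.Agent.FrobQuot

open GrpSchLib GrpSchLib.Kunneth GrpSchLib.Adjoint

theorem isExactSeq_of {S : Scheme.{u}} {H G Q : Over S} [GrpObj H] [GrpObj G] [GrpObj Q] (i : H ⟶ G) [IsMonHom i]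
    [Mono i] (q : G ⟶ Q) [IsMonHom q] [Flat q.left] [Surjective q.left] [LocallyOfFinitePresentation q.left]
    (hc : FpqcDescLib.IsCosetMap i q) : NonAbH1.IsExactSeq Scheme.fppfPrecoverage i q := by
  have h1 : i ≫ q = 1 := by
    have := (hc H 1 i).2 ⟨𝟙 H, by rw [_root_.one_mul, Category.id_comp]⟩
    rw [MonObj.one_comp] at this
    exact this.symm
  have hμ : ∀ {T : Over S} (m : T ⟶ G ⊗ H), m ≫ (G ◁ i) ≫ μ[G] = (m ≫ fst G H) * ((m ≫ snd G H) ≫ i) := by
    intro T m
    rw [Hom.mul_def, ← lift_whiskerLeft_assoc, ← comp_lift_assoc, lift_fst_snd, Category.id_comp]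
  have hw : fst G H ≫ q = ((G ◁ i) ≫ μ[G]) ≫ q := (hc _ _ _).2 ⟨snd G H, by simpa using hμ (𝟙 (G ⊗ H))⟩
  have hl : ∀ c : PullbackCone q q, ∃ h : c.pt ⟶ H, c.snd = c.fst * (h ≫ i) := fun c => (hc _ _ _).1 c.condition
  choose l hl using hl
  refine ⟨inferInstance, inferInstance, h1, ⟨⟨hw⟩, ⟨PullbackCone.IsLimit.mk _ (fun c => lift c.fst (l c))
    (fun c => lift_fst _ _) (fun c => ?_) (fun c m e1 e2 => ?_)⟩⟩, ?_⟩
  · rw [hμ, lift_fst, lift_snd]
    exact (hl c).symm
  · apply CartesianMonoidalCategory.hom_ext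
    · rw [e1, lift_fst]
    · rw [lift_snd, ← cancel_mono i]
      rw [hμ, e1, hl c] at e2
      exact mul_left_cancel e2
  · refine ⟨_, Scheme.Hom.singleton_mem_fppfPrecoverage q.left, ?_⟩
    rintro _ _ ⟨⟩
    exact ⟨𝟙 _, Category.id_comp _⟩

variable {k : Type u} [Field k]

theorem isPullback_pullback_map {L : Type u} [Field L] (φ : k →+* L) {X Y : Over (Spec (CommRingCat.of k))}
    (f : X ⟶ Y) :
    IsPullback ((Over.pullback (Spec.map (CommRingCat.ofHom φ))).map f).left (bcProj X φ) (bcProj Y φ) f.left := by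
  refine (IsPullback.of_bot (h₁₁ := bcProj X φ)
    (v₁₁ := ((Over.pullback (Spec.map (CommRingCat.ofHom φ))).map f).left) (v₁₂ := f.left) ?_ ?_
    (IsPullback.of_hasPullback Y.hom (Spec.map (CommRingCat.ofHom φ)))).flip
  · rw [Over.w f]
    have e : ((Over.pullback (Spec.map (CommRingCat.ofHom φ))).map f).left ≫
        pullback.snd Y.hom (Spec.map (CommRingCat.ofHom φ)) = pullback.snd X.hom (Spec.map (CommRingCat.ofHom φ)) :=
      Over.w _
    rw [e]
    exact IsPullback.of_hasPullback _ _
  · simp [Over.pullback, bcProj]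

theorem bc_one_left {L : Type u} [Field L] (φ : k →+* L) (Q : Over (Spec (CommRingCat.of k))) [GrpObj Q] :
    η[bc Q φ].left ≫ bcProj Q φ = Spec.map (CommRingCat.ofHom φ) ≫ η[Q].left := by
  simp [Functor.obj.η_def, bcProj, pullback.lift_fst]

theorem bc_map_left {L : Type u} [Field L] (φ : k →+* L) {X Y : Over (Spec (CommRingCat.of k))} (f : X ⟶ Y) :
    ((Over.pullback (Spec.map (CommRingCat.ofHom φ))).map f).left ≫ bcProj Y φ = bcProj X φ ≫ f.left :=
  (isPullback_pullback_map φ f).w

theorem main (G : Over (Spec (CommRingCat.of k))) [GrpObj G] [LocallyOfFiniteType G.hom] :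
    ∃ (H Q : Over (Spec (CommRingCat.of k))) (_ : GrpObj H) (_ : GrpObj Q) (i : H ⟶ G) (v : G ⟶ Q),
      IsFinite H.hom ∧ ConnectedSpace H.left ∧ Smooth Q.hom ∧ IsClosedImmersion i.left ∧
        NonAbH1.IsExactSeq Scheme.fppfPrecoverage i v := by
  classical
  haveI := AntiAffine.isSeparated_grp G
  obtain ⟨p, hp⟩ := CharP.exists k
  rcases CharP.char_is_prime_or_zero k p with hpp | hp0
  swap
  · subst hp0
    haveI : CharZero k := CharP.charP_to_charZero k
    refine ⟨𝟙_ (Over (Spec (CommRingCat.of k))), G, inferInstance, inferInstance, η[G], 𝟙 G,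
      inferInstanceAs (IsFinite (𝟙 (Spec (CommRingCat.of k)))),
      inferInstanceAs (ConnectedSpace (Spec (CommRingCat.of k))), smooth_of_charZero G, ?_, ?_⟩
    · haveI : IsClosedImmersion (η[G].left ≫ G.hom) := by
        rw [Over.w η[G]]
        exact inferInstanceAs (IsClosedImmersion (𝟙 (Spec (CommRingCat.of k))))
      exact IsClosedImmersion.of_comp η[G].left G.hom
    · haveI : IsMonHom η[G] := inferInstance
      haveI : Mono η[G] := ⟨fun _ _ _ => toUnit_unique _ _⟩
      haveI : Flat (𝟙 G : G ⟶ G).left := inferInstanceAs (Flat (𝟙 G.left))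
      haveI : Surjective (𝟙 G : G ⟶ G).left := inferInstanceAs (Surjective (𝟙 G.left))
      haveI : LocallyOfFinitePresentation (𝟙 G : G ⟶ G).left :=
        inferInstanceAs (LocallyOfFinitePresentation (𝟙 G.left))
      refine isExactSeq_of η[G] (𝟙 G) fun T a b => ?_
      rw [Category.comp_id, Category.comp_id]
      constructor
      · rintro rfl
        exact ⟨toUnit T, by rw [← Hom.one_def, _root_.mul_one]⟩
      · rintro ⟨h, rfl⟩
        rw [toUnit_unique h (toUnit T), ← Hom.one_def, _root_.mul_one]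
  haveI := Fact.mk hpp
  haveI : ExpChar k p := ExpChar.prime hpp
  let pt : ↥(Spec (CommRingCat.of k)) := IsLocalRing.closedPoint k
  haveI : IsLocallyNoetherian G.left := LocallyOfFiniteType.isLocallyNoetherian G.hom
  obtain ⟨D⟩ := exists_nbhds G η[G]
  choose K strK κ hκ hmono hκc hfin hconn hnor hk₀ hcrit using fun m => exists_kernel p m G D
  haveI := hκ; haveI := hmono; haveI := hκc; haveI := hfin; haveI := hconn
  -- the neutral component
  obtain ⟨G0, strG0, j, hj, hjc, hjf, hjr⟩ := S3023.result k G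
  haveI := hj; haveI := hjc; haveI := hjf
  have hjr := hjr pt
  haveI : LocallyOfFiniteType (j.left ≫ G.hom) := inferInstance
  haveI : LocallyOfFiniteType G0.hom := by rw [← Over.w j]; infer_instance
  haveI : IsOpenImmersion j.left := IsOpenImmersion.of_flat_of_mono j.left
  haveI : Mono j := (Over.forget _).mono_of_mono_map (inferInstanceAs (Mono j.left))
  haveI : ConnectedSpace G0.left := by
    have h : _root_.IsPreconnected (Set.range j.left) := by
      have e : Set.range j.left = connectedComponent (η[G].left pt) := hjr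
      rw [e]
      exact isPreconnected_connectedComponent
    rw [← Set.image_univ, j.left.isClosedEmbedding.isEmbedding.isInducing.isPreconnected_image] at h
    exact { isPreconnected_univ := h, toNonempty := ⟨η[G0].left pt⟩ }
  haveI : QuasiCompact G0.hom := by
    refine (quasiCompact_iff_compactSpace G0.hom).mpr ⟨?_⟩
    rw [j.left.isClosedEmbedding.isEmbedding.isInducing.isCompact_iff, Set.image_univ]
    have e : Set.range j.left = connectedComponent (η[G].left pt) := hjr
    rw [e]
    obtain ⟨c, hc, hce⟩ := exists_isMaxPt (η[G].left (IsLocalRing.closedPoint k))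
    show IsCompact (connectedComponent (η[G].left (IsLocalRing.closedPoint k)))
    rw [connectedComponent_one hc hce]
    exact isCompact_closure_one hc hce
  -- the kernels inside the neutral component
  have hκj : ∀ m, ∃ a : K m ⟶ G0, a ≫ j = κ m := by
    intro m
    have hr : Set.range (κ m).left ⊆ Set.range j.left := by
      have e : Set.range j.left = connectedComponent (η[G].left pt) := hjr
      rw [e]
      refine (isPreconnected_range (κ m).left.continuous).subset_connectedComponent ?_
      exact ⟨η[K m].left pt, by rw [← Scheme.Hom.comp_apply, ← Over.comp_left, IsMonHom.one_hom]⟩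
    exact ⟨Over.homMk (IsOpenImmersion.lift j.left (κ m).left hr) (by
      rw [← Over.w j, IsOpenImmersion.lift_fac_assoc, Over.w (κ m)]),
      Over.OverMorphism.ext (IsOpenImmersion.lift_fac _ _ _)⟩
  choose a ha using hκj
  haveI : ∀ m, IsMonHom (a m) := fun m =>
    { one_hom := by rw [← cancel_mono j, Category.assoc, ha, IsMonHom.one_hom, IsMonHom.one_hom]
      mul_hom := by
        rw [← cancel_mono j, Category.assoc, ha, IsMonHom.mul_hom, Category.assoc, IsMonHom.mul_hom,
          MonoidalCategory.tensorHom_comp_tensorHom_assoc, ha] }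
  haveI : ∀ m, Mono (a m) := fun m => by
    haveI : Mono (a m ≫ j) := by rw [ha]; infer_instance
    exact mono_of_mono (a m) j
  haveI : ∀ m, IsClosedImmersion (a m).left := fun m => by
    haveI : IsClosedImmersion ((a m).left ≫ j.left) := by rw [← Over.comp_left, ha]; infer_instance
    exact IsClosedImmersion.of_comp (a m).left j.left
  haveI : ∀ m, LocallyOfFiniteType (K m).hom := fun m => inferInstance
  have hnor0 : ∀ m, AlgGrp.IsNormalHom (a m) := fun m T g n => by
    obtain ⟨n', hn'⟩ := hnor m T (g ≫ j) n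
    refine ⟨n', ?_⟩
    rw [← cancel_mono j, MonObj.mul_comp, MonObj.mul_comp, GrpObj.inv_comp, Category.assoc, ha, hn', Category.assoc, ha]
  choose Q0 strQ0 q0 hq0 hq0f hq0s hq0p hQ0 hc0 hker0 using fun m =>
    GrpQuotLib.exists_quotientGrp (a m) (hnor0 m)
  haveI := hq0; haveI := hq0f; haveI := hq0s; haveI := hq0p; haveI := hQ0
  have hle : ∀ m m', m ≤ m' → ∃ c : K m ⟶ K m', c ≫ a m' = a m := by
    intro m m' hmm'
    obtain ⟨k₀, hk, hk'⟩ := hk₀ m
    obtain ⟨c, hc⟩ := hcrit m' (K m) k₀ fun x hx =>
      pow_eq_zero_of_le (Nat.pow_le_pow_right hpp.pos hmm') (hk' x hx)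
    exact ⟨c, by rw [← cancel_mono j, Category.assoc, ha, ha, hc, hk]⟩
  haveI : IsSeparated G0.hom := AntiAffine.isSeparated_grp G0
  haveI : ∀ m, QuasiCompact (q0 m).left := fun m => GrpFieldLib.QuotTower.orbit_qc (q0 m)
  have ht : ∀ m m', m ≤ m' → ∃ t : Q0 m ⟶ Q0 m', q0 m ≫ t = q0 m' := by
    intro m m' hmm'
    obtain ⟨c, hc⟩ := hle m m' hmm'
    refine GrpFieldLib.QuotTower.exists_desc (q0 m) (q0 m') fun {T} x y h => ?_
    obtain ⟨n, hn⟩ := (hc0 m T x y).1 h
    exact (hc0 m' T x y).2 ⟨n ≫ c, by rw [Category.assoc, hc, hn]⟩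
  -- the argument over an algebraic closure
  let L := AlgebraicClosure k
  let φ : k →+* L := algebraMap k L
  let g : Spec (CommRingCat.of L) ⟶ Spec (CommRingCat.of k) := Spec.map (CommRingCat.ofHom φ)
  let F := Over.pullback g
  haveI : GeometricallyIrreducible G0.hom := geometricallyIrreducible (G := G0)
  haveI : LocallyOfFiniteType (bc G0 φ).hom := inferInstanceAs (LocallyOfFiniteType (pullback.snd G0.hom g))
  haveI : QuasiCompact (bc G0 φ).hom := inferInstanceAs (QuasiCompact (pullback.snd G0.hom g))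
  haveI : IrreducibleSpace (bc G0 φ).left := by
    haveI : GeometricallyIrreducible (bc G0 φ).hom := inferInstanceAs (GeometricallyIrreducible (pullback.snd G0.hom g))
    exact GeometricallyIrreducible.irreducibleSpace_of_subsingleton (bc G0 φ).hom
  haveI : ConnectedSpace (bc G0 φ).left := inferInstance
  obtain ⟨D'⟩ := exists_nbhds (bc G0 φ) η[bc G0 φ]
  haveI : ∀ m, LocallyOfFiniteType (F.obj (Q0 m)).hom := fun m =>
    inferInstanceAs (LocallyOfFiniteType (pullback.snd (Q0 m).hom g))
  haveI : ∀ m, Flat (F.map (q0 m)).left := fun m =>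
    MorphismProperty.of_isPullback (P := @Flat) (isPullback_pullback_map φ (q0 m)).flip inferInstance
  haveI : ∀ m, Surjective (F.map (q0 m)).left := fun m =>
    MorphismProperty.of_isPullback (P := @Surjective) (isPullback_pullback_map φ (q0 m)).flip inferInstance
  obtain ⟨m, hm⟩ := exists_isReduced (bc G0 φ) D' (fun m => bc (Q0 m) φ) (fun m => F.map (q0 m))
    (fun m m' h => by
      obtain ⟨t, ht⟩ := ht m m' h
      exact ⟨F.map t, by rw [← F.map_comp, ht]⟩)
    (fun n => by
      refine ⟨n + 1, ?_⟩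
      let f : D'.N n ⟶ bc G0 φ := D'.j n ≫ D'.uι
      let N : Over (Spec (CommRingCat.of k)) := Over.mk ((D'.N n).hom ≫ g)
      let fk : N ⟶ G0 := Over.homMk (f.left ≫ bcProj G0 φ) (by
        show (f.left ≫ pullback.fst _ _) ≫ G0.hom = (D'.N n).hom ≫ g
        rw [Category.assoc, pullback.condition, ← Category.assoc]
        exact congrArg (· ≫ g) (Over.w f))
      have hone : (D'.q n ≫ f).left ≫ bcProj G0 φ = g ≫ η[G0].left := by
        rw [show D'.q n ≫ f = η[bc G0 φ] by rw [← Category.assoc, D'.q_fac, D'.u₀_fac]]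
        exact bc_one_left φ G0
      have hpt : (D'.q n).left ≫ (fk ≫ j).left = g ≫ η[G].left := by
        show (D'.q n).left ≫ (f.left ≫ bcProj G0 φ) ≫ j.left = _
        rw [Category.assoc, ← Category.assoc (D'.q n).left, ← Over.comp_left, reassoc_of% hone,
          ← Over.comp_left, IsMonHom.one_hom]
      haveI : Subsingleton ↥N.left := inferInstanceAs (Subsingleton ↥(D'.N n).left)
      have hr : Set.range (fk ≫ j).left ⊆ Set.range D.uι.left := by
        rintro _ ⟨x, rfl⟩
        refine ⟨D.u₀.left pt, ?_⟩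
        let x₀ : ↥(Spec (CommRingCat.of L)) := IsLocalRing.closedPoint L
        rw [Subsingleton.elim x ((D'.q n).left x₀)]
        show _ = ((D'.q n).left ≫ (fk ≫ j).left) x₀
        rw [hpt, Scheme.Hom.comp_apply, ← Scheme.Hom.comp_apply, ← Over.comp_left, D.u₀_fac]
        exact congrArg η[G].left (@Subsingleton.elim ↥(Spec (CommRingCat.of k)) inferInstance _ _)
      let f₀ : N ⟶ D.U := Over.homMk (IsOpenImmersion.lift D.uι.left (fk ≫ j).left hr) (by
        rw [← Over.w D.uι, IsOpenImmersion.lift_fac_assoc, Over.w (fk ≫ j)])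
      have hf₀ : f₀ ≫ D.uι = fk ≫ j := Over.OverMorphism.ext (IsOpenImmersion.lift_fac _ _ _)
      have hq₀ : (D'.q n).left ≫ f₀.left = g ≫ D.u₀.left := by
        rw [← cancel_mono D.uι.left, Category.assoc, ← Over.comp_left, hf₀, hpt, Category.assoc,
          ← Over.comp_left, D.u₀_fac]
      obtain ⟨c, hc⟩ := hcrit (n + 1) N f₀ fun x hx => by
        obtain ⟨b, hb⟩ := D'.surj n (ev f₀ x : Fn N)
        have h0 : evPt D'.u₀ b = 0 := by
          rw [← D'.q_fac n, ← evPt_comp, hb]
          show (Scheme.ΓSpecIso (CommRingCat.of L)).hom ((D'.q n).left.appTop (f₀.left.appTop x)) = 0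
          show (Scheme.ΓSpecIso (CommRingCat.of L)).hom (((D'.q n).left ≫ f₀.left).appTop x) = 0
          rw [hq₀, Scheme.Hom.comp_appTop, CommRingCat.comp_apply]
          have hx0 : D.u₀.left.appTop x = 0 := by
            apply (ConcreteCategory.bijective_of_isIso (Scheme.ΓSpecIso (CommRingCat.of k)).hom).1
            rw [map_zero]
            exact hx
          refine (congrArg (fun z => (Scheme.ΓSpecIso (CommRingCat.of L)).hom (g.appTop z)) hx0).trans ?_
          rw [map_zero, map_zero]
        show (ev f₀ x : Fn N) ^ p ^ (n + 1) = 0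
        refine pow_eq_zero_of_le (Nat.lt_pow_self hpp.one_lt).le ?_
        have hmem : b ^ (n + 1) ∈ RingHom.ker (ev (D'.j n)) := by
          rw [D'.ker n]
          exact Ideal.pow_mem_pow (RingHom.mem_ker.mpr h0) _
        rw [RingHom.mem_ker, map_pow, hb] at hmem
        exact hmem
      rw [hf₀, ← ha] at hc
      have hc' : c ≫ a (n + 1) = fk := by rwa [← Category.assoc, cancel_mono] at hc
      have hk1 : fk ≫ q0 (n + 1) = 1 := by
        rw [← hc', Category.assoc, (hker0 (n + 1)).w, Hom.one_def, ← Category.assoc, comp_toUnit]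
      apply Over.OverMorphism.ext
      refine pullback.hom_ext ?_ ((Over.w _).trans (Over.w _).symm)
      show (f ≫ F.map (q0 (n + 1))).left ≫ bcProj (Q0 (n + 1)) φ = (1 : D'.N n ⟶ bc (Q0 (n + 1)) φ).left ≫ bcProj (Q0 (n + 1)) φ
      conv_rhs => rw [Hom.one_def, Over.comp_left, Category.assoc, bc_one_left]
      rw [Over.comp_left, Category.assoc, bc_map_left, ← Category.assoc f.left]
      show (fk ≫ q0 (n + 1)).left = _
      rw [hk1, Hom.one_def]
      show N.hom ≫ _ = (D'.N n).hom ≫ _
      exact Category.assoc _ _ _)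
  haveI := hm
  haveI hQsm : Smooth (Q0 m).hom := smooth_of_isReduced_baseChange (Q0 m) hm
  -- the quotient of the whole group
  obtain ⟨Q, strQ, q, hq, hqf, hqs, hqp, hQ, hc, -⟩ := GrpQuotLib.exists_quotientGrp (κ m) (hnor m)
  haveI := hq; haveI := hqf; haveI := hqs; haveI := hqp; haveI := hQ
  obtain ⟨r, hr⟩ := GrpFieldLib.QuotTower.exists_desc (q0 m) (j ≫ q) (fun {T} x y h => by
    obtain ⟨n, hn⟩ := (hc0 m T x y).1 h
    rw [← Category.assoc, ← Category.assoc]
    refine (hc T _ _).2 ⟨n, ?_⟩
    rw [hn, MonObj.mul_comp, Category.assoc, ha])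
  haveI : Flat r.left := by
    haveI : Flat ((q0 m).left ≫ r.left) := by rw [← Over.comp_left, hr, Over.comp_left]; infer_instance
    haveI : Flat (𝟙 G0.left ≫ (q0 m).left) := by rw [Category.id_comp]; infer_instance
    haveI : Surjective (𝟙 G0.left ≫ (q0 m).left) := by rw [Category.id_comp]; infer_instance
    exact Groth.Agent.DescLib.flat_of_flat_comp_refined (q0 m).left r.left (𝟙 G0.left)
  refine ⟨K m, Q, strK m, strQ, κ m, q, hfin m, hconn m, ?_, hκc m, isExactSeq_of (κ m) q hc⟩
  refine smooth_of_isReduced_stalk_one_bc ?_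
  let x₀ : ↥(Spec (CommRingCat.of L)) := IsLocalRing.closedPoint L
  haveI : Flat (F.map r).left :=
    MorphismProperty.of_isPullback (P := @Flat) (isPullback_pullback_map φ r).flip inferInstance
  have hη : η[Q0 m] ≫ r = η[Q] := by
    rw [← IsMonHom.one_hom (f := q0 m), Category.assoc, hr, ← Category.assoc, IsMonHom.one_hom, IsMonHom.one_hom]
  have hη' : (F.map r).left (η[bc (Q0 m) φ].left x₀) = η[bc Q φ].left x₀ := by
    have e : η[bc (Q0 m) φ] ≫ F.map r = η[bc Q φ] := by
      simp only [Functor.obj.η_def, Category.assoc]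
      rw [← F.map_comp, hη]
    rw [← Scheme.Hom.comp_apply, ← Over.comp_left, e]
  haveI : AlgebraicGeometry.IsReduced (bc (Q0 m) φ).left := hm
  let y := η[bc (Q0 m) φ].left x₀
  have hred : _root_.IsReduced ((bc Q φ).left.presheaf.stalk ((F.map r).left y)) := by
    letI := ((F.map r).left.stalkMap y).hom.toAlgebra
    haveI : Module.Flat ((bc Q φ).left.presheaf.stalk ((F.map r).left y)) ((bc (Q0 m) φ).left.presheaf.stalk y) :=
      Flat.stalkMap (F.map r).left y
    haveI : IsLocalHom (algebraMap ((bc Q φ).left.presheaf.stalk ((F.map r).left y)) ((bc (Q0 m) φ).left.presheaf.stalk y)) :=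
      inferInstanceAs (IsLocalHom ((F.map r).left.stalkMap y).hom)
    haveI := Module.FaithfullyFlat.of_flat_of_isLocalHom
      (A := (bc Q φ).left.presheaf.stalk ((F.map r).left y)) (B := (bc (Q0 m) φ).left.presheaf.stalk y)
    exact isReduced_of_injective ((F.map r).left.stalkMap y).hom (FaithfulSMul.algebraMap_injective _ _)
  rw [hη'] at hred
  exact hred

end Groth.Agent.FrobQuot
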